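import Mathlib.RingTheory.MvPolynomial.Basic
import Mathlib.RingTheory.Finiteness.Basic
import Mathlib.RingTheory.Ideal.Quotient.Operations
import Mathlib.Algebra.Category.Ring.Basic
import Mathlib.RingTheory.RingHom.FinitePresentation
import Mathlib.RingTheory.FinitePresentation
import Mathlib.CategoryTheory.Filtered.Basic
import Mathlib.CategoryTheory.Limits.Shapes.Terminal
import Mathlib.CategoryTheory.Comma.Over.Basic

/-!
# Algebras are filtered colimits of finitely presented ones

Finite presentations by generators in `B` and relations among them.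
-/

set_option autoImplicit false

universe u

open CategoryTheory

namespace Groth.Agent.IndFP

variable {A B : Type u} [CommRing A] [CommRing B] [Algebra A B]

/-- Polynomials in finitely many elements of `B`. -/
abbrev Poly (A : Type u) {B : Type u} [CommRing A] (S : Finset B) : Type u :=
  MvPolynomial {x : B // x ∈ S} A

/-- Evaluation. -/
noncomputable def ev (A : Type u) {B : Type u} [CommRing A] [CommRing B] [Algebra A B] (S : Finset B) :
    Poly A S →ₐ[A] B := MvPolynomial.aeval Subtype.val

@[simp] theorem ev_X (S : Finset B) (x : {x : B // x ∈ S}) : ev A S (MvPolynomial.X x) = x.1 := by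
  simp [ev]

/-- Renaming along an inclusion. -/
noncomputable def incl (A : Type u) {B : Type u} [CommRing A] {S S' : Finset B} (hS : S ⊆ S') :
    Poly A S →ₐ[A] Poly A S' := MvPolynomial.rename fun x => ⟨x.1, hS x.2⟩

theorem ev_incl {S S' : Finset B} (hS : S ⊆ S') (p : Poly A S) : ev A S' (incl A hS p) = ev A S p := by
  rw [incl, ev, MvPolynomial.aeval_rename]; rfl

/-- Finitely presented approximations. -/
structure Idx (A B : Type u) [CommRing A] [CommRing B] [Algebra A B] : Type u where
  S : Finset B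
  I : Ideal (Poly A S)
  fg : I.FG
  le : I ≤ RingHom.ker (ev A S)

instance : Preorder (Idx A B) where
  le j k := ∃ hS : j.S ⊆ k.S, ∀ p ∈ j.I, incl A hS p ∈ k.I
  le_refl j := ⟨subset_rfl, fun p hp => by
    have : incl A (subset_refl j.S) = AlgHom.id A _ := MvPolynomial.algHom_ext fun x => by
      simp [incl]
    rw [this]; exact hp⟩
  le_trans j k l hjk hkl := ⟨hjk.1.trans hkl.1, fun p hp => by
    have : incl A (hjk.1.trans hkl.1) = (incl A hkl.1).comp (incl A hjk.1) :=
      MvPolynomial.algHom_ext fun x => by simp [incl]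
    rw [this]; exact hkl.2 _ (hjk.2 p hp)⟩

theorem exists_idx (S₀ : Finset B) (R₀ : Finset (Poly A S₀)) (hR₀ : ∀ r ∈ R₀, ev A S₀ r = 0) :
    ∃ (j : Idx A B) (hS : S₀ ⊆ j.S), ∀ r ∈ R₀, incl A hS r ∈ j.I := by
  refine ⟨⟨S₀, Ideal.span (R₀ : Set (Poly A S₀)), ⟨R₀, rfl⟩, Ideal.span_le.mpr hR₀⟩, subset_rfl, fun r hr => ?_⟩
  have : incl A (subset_refl S₀) = AlgHom.id A _ := MvPolynomial.algHom_ext fun x => by simp [incl]
  rw [this]
  exact Ideal.subset_span hr

theorem idx_directed
    (j k : Idx A B) : ∃ m, j ≤ m ∧ k ≤ m := by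
  classical
  obtain ⟨Rj, hRj⟩ := j.fg
  obtain ⟨Rk, hRk⟩ := k.fg
  let iₗ := incl A (Finset.subset_union_left : j.S ⊆ j.S ∪ k.S)
  let iᵣ := incl A (Finset.subset_union_right : k.S ⊆ j.S ∪ k.S)
  obtain ⟨m, hm, hmem⟩ := exists_idx (j.S ∪ k.S) (Rj.image iₗ ∪ Rk.image iᵣ) (fun r hr => by
    rcases Finset.mem_union.mp hr with hr | hr <;> obtain ⟨r', hr', rfl⟩ := Finset.mem_image.mp hr <;>
      rw [ev_incl]
    · exact j.le (hRj ▸ Ideal.subset_span hr')
    · exact k.le (hRk ▸ Ideal.subset_span hr'))
  refine ⟨m, ⟨Finset.subset_union_left.trans hm, fun p hp => ?_⟩,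
    ⟨Finset.subset_union_right.trans hm, fun p hp => ?_⟩⟩
  · have e : incl A (Finset.subset_union_left.trans hm) = (incl A hm).comp iₗ :=
      MvPolynomial.algHom_ext fun x => by simp [incl, iₗ]
    rw [e]
    have : Ideal.span (Rj : Set _) ≤ m.I.comap ((incl A hm).comp iₗ) := Ideal.span_le.mpr fun r hr =>
      hmem _ (Finset.mem_union_left _ (Finset.mem_image_of_mem _ hr))
    exact this (hRj ▸ hp)
  · have e : incl A (Finset.subset_union_right.trans hm) = (incl A hm).comp iᵣ :=
      MvPolynomial.algHom_ext fun x => by simp [incl, iᵣ]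
    rw [e]
    have : Ideal.span (Rk : Set _) ≤ m.I.comap ((incl A hm).comp iᵣ) := Ideal.span_le.mpr fun r hr =>
      hmem _ (Finset.mem_union_right _ (Finset.mem_image_of_mem _ hr))
    exact this (hRk ▸ hp)

/-- Transition maps. -/
noncomputable def trans {j k : Idx A B} (hjk : j ≤ k) : (Poly A j.S ⧸ j.I) →ₐ[A] (Poly A k.S ⧸ k.I) :=
  Ideal.quotientMapₐ k.I (incl A hjk.1) fun p hp => hjk.2 p hp

theorem trans_mk {j k : Idx A B} (hjk : j ≤ k) (x : {x : B // x ∈ j.S}) :
    trans hjk (Ideal.Quotient.mk j.I (MvPolynomial.X x)) =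
      Ideal.Quotient.mk k.I (MvPolynomial.X ⟨x.1, hjk.1 x.2⟩) := by
  show Ideal.Quotient.mk k.I (incl A hjk.1 (MvPolynomial.X x)) = _
  simp [incl]

theorem algHom_ext_idx {j : Idx A B} {Q : Type u} [CommRing Q] [Algebra A Q]
    {f g : (Poly A j.S ⧸ j.I) →ₐ[A] Q}
    (hfg : ∀ x, f (Ideal.Quotient.mk j.I (MvPolynomial.X x)) = g (Ideal.Quotient.mk j.I (MvPolynomial.X x))) :
    f = g :=
  Ideal.Quotient.algHom_ext _ (MvPolynomial.algHom_ext fun x => hfg x)

variable (A B)

/-- The diagram. -/
noncomputable def diagram : Idx A B ⥤ Under (CommRingCat.of A) where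
  obj j := Under.mk (CommRingCat.ofHom (algebraMap A (Poly A j.S ⧸ j.I)))
  map {j k} f := Under.homMk (CommRingCat.ofHom (trans (leOfHom f)).toRingHom)
    (CommRingCat.hom_ext (RingHom.ext fun a => (trans (leOfHom f)).commutes a))
  map_id j := by
    refine Under.UnderMorphism.ext (CommRingCat.hom_ext ?_)
    have : trans (le_refl j) = AlgHom.id A _ := algHom_ext_idx fun x => trans_mk _ x
    exact congrArg AlgHom.toRingHom this
  map_comp {j k l} f g := by
    refine Under.UnderMorphism.ext (CommRingCat.hom_ext ?_)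
    have : trans (leOfHom (f ≫ g)) = (trans (leOfHom g)).comp (trans (leOfHom f)) :=
      algHom_ext_idx fun x => by simp [trans_mk]
    exact congrArg AlgHom.toRingHom this

/-- Evaluation on an approximation. -/
noncomputable def leg (j : Idx A B) : (Poly A j.S ⧸ j.I) →ₐ[A] B :=
  Ideal.Quotient.liftₐ j.I (ev A j.S) fun p hp => j.le hp

@[simp] theorem leg_mk (j : Idx A B) (p : Poly A j.S) :
    leg A B j (Ideal.Quotient.mk j.I p) = ev A j.S p := Ideal.Quotient.lift_mk _ _ _

/-- The cocone with point `B`. -/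
noncomputable def cocone : Limits.Cocone (diagram A B) where
  pt := Under.mk (CommRingCat.ofHom (algebraMap A B))
  ι :=
    { app := fun j => Under.homMk (CommRingCat.ofHom (leg A B j).toRingHom)
        (CommRingCat.hom_ext (RingHom.ext fun a => (leg A B j).commutes a))
      naturality := fun j k f => by
        refine Under.UnderMorphism.ext (CommRingCat.hom_ext ?_)
        have : (leg A B k).comp (trans (leOfHom f)) = leg A B j := algHom_ext_idx fun x => by
          rw [AlgHom.comp_apply, trans_mk, leg_mk, leg_mk, ev_X, ev_X]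
        exact congrArg AlgHom.toRingHom this }

variable {A B}

theorem nonempty_isColimit_cocone :
    Nonempty (Limits.IsColimit (cocone A B)) := by
  classical
  have hex : ∀ b : B, ∃ j : Idx A B, b ∈ j.S := fun b => by
    obtain ⟨j, hj, -⟩ := exists_idx (A := A) {b} ∅ (by simp)
    exact ⟨j, hj (by simp)⟩
  choose jb hjb using hex
  refine ⟨?_⟩
  let val : ∀ (s : Limits.Cocone (diagram A B)) (j : Idx A B) (x : {x : B // x ∈ j.S}), s.pt.right :=
    fun s j x => (s.ι.app j).right.hom (Ideal.Quotient.mk j.I (MvPolynomial.X x))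
  have hnat : ∀ (s : Limits.Cocone (diagram A B)) {j k : Idx A B} (hjk : j ≤ k) (z : Poly A j.S ⧸ j.I),
      (s.ι.app k).right.hom (trans hjk z) = (s.ι.app j).right.hom z := fun s j k hjk z =>
    DFunLike.congr_fun (congrArg (fun f => f.right.hom) (s.w (homOfLE hjk))) z
  have hval : ∀ s (j : Idx A B) (b : B) (hb : b ∈ j.S),
      val s j ⟨b, hb⟩ = val s (jb b) ⟨b, hjb b⟩ := by
    intro s j b hb
    obtain ⟨m, h1, h2⟩ := idx_directed j (jb b)
    simp only [val]
    rw [← hnat s h1, ← hnat s h2, trans_mk, trans_mk]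
  let f : ∀ s : Limits.Cocone (diagram A B), B → s.pt.right := fun s b => val s (jb b) ⟨b, hjb b⟩
  have hleg : ∀ (j : Idx A B) (p : Poly A j.S), ev A j.S p = 0 →
      ∃ k, ∃ hjk : j ≤ k, trans hjk (Ideal.Quotient.mk j.I p) = 0 := by
    intro j p hp
    obtain ⟨R, hR⟩ := j.fg
    obtain ⟨k, hk, hmem⟩ := exists_idx j.S (insert p R) (fun r hr => by
      rcases Finset.mem_insert.mp hr with rfl | hr
      · exact hp
      · exact j.le (hR ▸ Ideal.subset_span hr))
    refine ⟨k, ⟨hk, fun q hq => ?_⟩, Ideal.Quotient.eq_zero_iff_mem.mpr (hmem p (Finset.mem_insert_self _ _))⟩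
    have : Ideal.span (R : Set _) ≤ k.I.comap (incl A hk) := Ideal.span_le.mpr fun r hr =>
      hmem r (Finset.mem_insert_of_mem hr)
    exact this (hR ▸ hq)
  have hf : ∀ s (j : Idx A B) (p : Poly A j.S),
      f s (ev A j.S p) = (s.ι.app j).right.hom (Ideal.Quotient.mk j.I p) := by
    intro s j p
    set b := ev A j.S p
    obtain ⟨m, h1, h2⟩ := idx_directed j (jb b)
    have hb : b ∈ m.S := h2.1 (hjb b)
    obtain ⟨k, hmk, hk⟩ := hleg m (incl A h1.1 p - MvPolynomial.X ⟨b, hb⟩)
      (by rw [map_sub, ev_incl, ev_X, sub_self])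
    show val s (jb b) ⟨b, hjb b⟩ = _
    rw [← hval s m b hb]
    simp only [val]
    rw [← hnat s h1, ← hnat s hmk, ← hnat s hmk (trans h1 _)]
    congr 1
    rw [map_sub, map_sub, sub_eq_zero] at hk
    exact hk.symm
  have hadd : ∀ s (a b : B) (j : Idx A B) (ha : a ∈ j.S) (hb : b ∈ j.S),
      f s (a + b) = f s a + f s b ∧ f s (a * b) = f s a * f s b := by
    intro s a b j ha hb
    have e1 := hf s j (MvPolynomial.X ⟨a, ha⟩)
    have e2 := hf s j (MvPolynomial.X ⟨b, hb⟩)
    have e3 := hf s j (MvPolynomial.X ⟨a, ha⟩ + MvPolynomial.X ⟨b, hb⟩)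
    have e4 := hf s j (MvPolynomial.X ⟨a, ha⟩ * MvPolynomial.X ⟨b, hb⟩)
    rw [ev_X] at e1 e2
    rw [map_add, ev_X, ev_X, map_add] at e3
    rw [map_mul, ev_X, ev_X, map_mul] at e4
    refine ⟨e3.trans ((map_add _ _ _).trans ?_), e4.trans ((map_mul _ _ _).trans ?_)⟩
    · exact congrArg₂ (· + ·) e1.symm e2.symm
    · exact congrArg₂ (· * ·) e1.symm e2.symm
  have halg : ∀ s (a : A), f s (algebraMap A B a) = s.pt.hom.hom a := by
    intro s a
    have := hf s (jb (algebraMap A B a)) (algebraMap A _ a)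
    rw [AlgHom.commutes] at this
    rw [this]
    exact DFunLike.congr_fun (congrArg CommRingCat.Hom.hom (Under.w (s.ι.app (jb (algebraMap A B a))))) a
  have hpair : ∀ a b : B, ∃ j : Idx A B, a ∈ j.S ∧ b ∈ j.S := fun a b => by
    obtain ⟨m, h1, h2⟩ := idx_directed (jb a) (jb b)
    exact ⟨m, h1.1 (hjb a), h2.1 (hjb b)⟩
  let F : ∀ s : Limits.Cocone (diagram A B), B →+* s.pt.right := fun s =>
    { toFun := f s
      map_one' := by
        have := halg s 1
        rw [map_one, map_one] at this
        exact this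
      map_mul' := fun a b => by
        obtain ⟨j, ha, hb⟩ := hpair a b
        exact (hadd s a b j ha hb).2
      map_zero' := by
        have := halg s 0
        rw [map_zero, map_zero] at this
        exact this
      map_add' := fun a b => by
        obtain ⟨j, ha, hb⟩ := hpair a b
        exact (hadd s a b j ha hb).1 }
  exact
    { desc := fun s => Under.homMk (CommRingCat.ofHom (F s))
        (CommRingCat.hom_ext (RingHom.ext fun a => halg s a))
      fac := fun s j => by
        refine Under.UnderMorphism.ext (CommRingCat.hom_ext (RingHom.ext fun z => ?_))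
        obtain ⟨p, rfl⟩ := Ideal.Quotient.mk_surjective z
        exact hf s j p
      uniq := fun s m hm => by
        refine Under.UnderMorphism.ext (CommRingCat.hom_ext (RingHom.ext fun b => ?_))
        have := DFunLike.congr_fun (congrArg (fun f => f.right.hom) (hm (jb b)))
          (Ideal.Quotient.mk (jb b).I (MvPolynomial.X ⟨b, hjb b⟩))
        show m.right.hom b = f s b
        refine Eq.trans ?_ this
        show m.right.hom b = m.right.hom (leg A B (jb b) (Ideal.Quotient.mk _ (MvPolynomial.X ⟨b, hjb b⟩)))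
        rw [leg_mk, ev_X] }

theorem exists_colimit (A B : Type u) [CommRing A] [CommRing B] [Algebra A B] :
    ∃ (J : Type u) (_ : SmallCategory J) (_ : IsFiltered J) (F : J ⥤ Under (CommRingCat.of A))
      (c : Limits.Cocone F) (_ : Limits.IsColimit c),
      (∀ j, (F.obj j).hom.hom.FinitePresentation) ∧
      Nonempty (c.pt ≅ Under.mk (CommRingCat.ofHom (algebraMap A B))) := by
  haveI : Nonempty (Idx A B) := by
    obtain ⟨j, -, -⟩ := exists_idx (A := A) (B := B) ∅ ∅ (by simp)
    exact ⟨j⟩
  haveI : IsDirectedOrder (Idx A B) := ⟨fun j k => idx_directed j k⟩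
  refine ⟨Idx A B, inferInstance, inferInstance, diagram A B, cocone A B,
    (nonempty_isColimit_cocone (A := A) (B := B)).some, fun j => ?_, ⟨Iso.refl _⟩⟩
  show RingHom.FinitePresentation (algebraMap A (Poly A j.S ⧸ j.I))
  haveI : Algebra.FinitePresentation A (Poly A j.S ⧸ j.I) := Algebra.FinitePresentation.quotient j.fg
  exact RingHom.finitePresentation_algebraMap.mpr inferInstance

end Groth.Agent.IndFP
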